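import Mathlib

/-!
# Groups whose non-subnormal biprimary subgroups have maximal normalisers

The hypothesis, and the normalisers of soluble subgroups not contained in the kernel of a map onto a simple group.
-/

set_option autoImplicit false
set_option linter.style.haveILetI false

namespace CfsgLib.MaxNormalizers

open Subgroup

universe u v

/-- The order has at most two prime divisors. -/
def Biprimary {G : Type u} [Group G] (H : Subgroup G) : Prop :=
  ∃ p q : ℕ, p.Prime ∧ q.Prime ∧ ∀ r : ℕ, r.Prime → r ∣ Nat.card H → r = p ∨ r = q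

/-- Every subgroup that is not subnormal and biprimary has a maximal normaliser. -/
def Hyp (G : Type u) [Group G] : Prop :=
  ∀ H : Subgroup G, ¬ H.IsSubnormal → Biprimary H → IsCoatom (normalizer (H : Set G))

variable {G : Type u} [Group G] [Finite G]

theorem biprimary_of_dvd {H : Subgroup G} {p q a b : ℕ} (hp : p.Prime) (hq : q.Prime)
    (h : Nat.card H ∣ p ^ a * q ^ b) : Biprimary H := by
  refine ⟨p, q, hp, hq, fun r hr hd => ?_⟩
  rcases (hr.dvd_mul).1 (hd.trans h) with h | h
  · exact Or.inl ((Nat.prime_dvd_prime_iff_eq hr hp).1 (hr.dvd_of_dvd_pow h))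
  · exact Or.inr ((Nat.prime_dvd_prime_iff_eq hr hq).1 (hr.dvd_of_dvd_pow h))

theorem biprimary_of_isPGroup {H : Subgroup G} {p : ℕ} [hp : Fact p.Prime] (h : IsPGroup p H) : Biprimary H := by
  obtain ⟨a, ha⟩ := IsPGroup.iff_card.1 h
  exact biprimary_of_dvd (a := a) (b := 0) hp.out hp.out (by rw [ha, pow_zero, mul_one])

variable {Q : Type v} [Group Q] [IsSimpleGroup Q] (f : G →* Q) (hf : Function.Surjective f)
  (hna : ¬ Group.IsSolvable Q)

include hf hna

theorem map_not_normal {H : Subgroup G} [Group.IsSolvable H] (hH : ¬ H ≤ f.ker) : ¬ (H.map f).Normal := fun hn => by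
  rcases hn.eq_bot_or_eq_top with h | h
  · exact hH fun x hx => (Subgroup.eq_bot_iff_forall _).1 h _ (mem_map_of_mem f hx)
  · haveI : Group.IsSolvable (H.map f) := Group.isSolvable_of_surjective (f.subgroupMap_surjective H)
    rw [h] at this
    exact hna (Group.isSolvable_of_surjective (f := (⊤ : Subgroup Q).subtype) fun x => ⟨⟨x, mem_top x⟩, rfl⟩)

theorem not_isSubnormal {H : Subgroup G} [Group.IsSolvable H] (hH : ¬ H ≤ f.ker) : ¬ H.IsSubnormal := fun hs =>
  map_not_normal f hf hna hH
    (Subgroup.IsSubnormal.normal_of_isSimpleGroup inferInstance (hs.map hf))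

/-- The normaliser is the full preimage of the normaliser of the image. -/
theorem normalizer_eq (h : Hyp G) {H : Subgroup G} [Group.IsSolvable H] (hH : ¬ H ≤ f.ker) (hb : Biprimary H) :
    normalizer (H : Set G) = (normalizer ((H.map f : Subgroup Q) : Set Q)).comap f := by
  have hle : normalizer (H : Set G) ≤ (normalizer ((H.map f : Subgroup Q) : Set Q)).comap f := fun g hg =>
    le_normalizer_map f ⟨g, hg, rfl⟩
  rcases hle.eq_or_lt with e | e
  · exact e
  · exfalso
    have htop := (h H (not_isSubnormal f hf hna hH) hb).2 _ e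
    refine map_not_normal f hf hna hH (normalizer_eq_top_iff.1 ?_)
    rw [← map_comap_eq_self_of_surjective hf (normalizer ((H.map f : Subgroup Q) : Set Q)), htop,
      map_top_of_surjective f hf]

/-- The kernel normalises every biprimary soluble subgroup outside it. -/
theorem ker_le_normalizer (h : Hyp G) {H : Subgroup G} [Group.IsSolvable H] (hH : ¬ H ≤ f.ker) (hb : Biprimary H) :
    f.ker ≤ normalizer (H : Set G) := fun g hg => by
  rw [normalizer_eq f hf hna h hH hb, mem_comap, MonoidHom.mem_ker.1 hg]
  exact one_mem _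

end CfsgLib.MaxNormalizers
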