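import Cfsg.Agent.Lib.Classical.SLNormalized
import Cfsg.Agent.Lib.Classical.ProjLine
import Cfsg.Agent.Lib.Spor.CoverByExponent
import Cfsg.Agent.S2086
import Cfsg.Agent.S4211

/-!
# Facts on `PSL(2, 13)` and small group lemmas

Perfect central extensions of `PSL(2, 13)`, a quaternion configuration in `SL(2, 13)`, odd Dedekind groups.
-/

set_option autoImplicit false
set_option linter.style.haveILetI false

namespace CfsgLib.MaxNormalizers

open Subgroup

universe u

/-- The group `PSL(2, 13)`. -/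
abbrev PT : Type := Matrix.ProjectiveSpecialLinearGroup (Fin 2) (ZMod 13)

/-- The group `SL(2, 13)`. -/
abbrev ST : Type := Matrix.SpecialLinearGroup (Fin 2) (ZMod 13)

instance fact_thirteen : Fact (Nat.Prime 13) := ⟨by norm_num⟩

theorem card_ST : Nat.card ST = 2184 := by
  rw [Classical.card_sl2, ZMod.card]

theorem card_PT : Nat.card PT = 1092 := by
  have h := Classical.card_psl2 (F := ZMod 13)
  rw [ZMod.card, show Nat.gcd 2 (13 - 1) = 2 from rfl] at h
  show Nat.card (Matrix.ProjectiveSpecialLinearGroup (Fin 2) (ZMod 13)) = 1092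
  omega

instance simple_PT : IsSimpleGroup PT :=
  (Classical.sl_perfect_and_psl_simple (n := 2) (F := ZMod 13) le_rfl (by simp [ZMod.card])).2

theorem not_solvable_PT : ¬ Group.IsSolvable PT := fun hs => by
  letI : CommGroup PT :=
    { (inferInstance : Group PT) with mul_comm := IsSimpleGroup.comm_iff_isSolvable.2 hs }
  have h : (Nat.card PT).Prime := IsSimpleGroup.prime_card
  rw [card_PT] at h
  norm_num at h

theorem center_PT : center PT = ⊥ := by
  refine ((center PT).normal_of_characteristic.eq_bot_or_eq_top).resolve_right fun h => not_solvable_PT ?_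
  exact IsSimpleGroup.comm_iff_isSolvable.1 fun a b => (mem_center_iff.1 (h.ge (mem_top b)) a)

/-- A perfect central extension of `PSL(2, 13)` is `PSL(2, 13)` or `SL(2, 13)`. -/
theorem cover_cases {K : Type u} [Group K] [Finite K] (τ : K →* PT) (hτ : Function.Surjective τ)
    (hc : τ.ker ≤ center K) (hperf : _root_.commutator K = ⊤) :
    Nonempty (K ≃* PT) ∨ Nonempty (K ≃* ST) := by
  classical
  have hA := Cfsg.Agent.S2086.result (F := ZMod 13) (q := 13) (ZMod.card 13) 2 le_rfl (by simp) (by simp)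
  have hg : Nat.gcd 2 (13 - 1) = 2 := rfl
  rw [hg] at hA
  obtain ⟨π, hπ⟩ : ∃ π : Multiplicative (ZMod 2) →* τ.ker, Function.Surjective π := by
    obtain ⟨Γ, iΓ, iΓ', σ, hσ, ⟨k⟩⟩ := hA.1
    obtain ⟨n, ⟨eu⟩⟩ := Finite.exists_equiv_fin K
    let ψ : K →* Equiv.Perm (Fin n) := eu.permCongrHom.toMonoidHom.comp (MulAction.toPermHom K K)
    have hψ : Function.Injective ψ := eu.permCongrHom.injective.comp MulAction.toPerm_injective
    let e : ψ.range ≃* K := (MonoidHom.ofInjective hψ).symm
    obtain ⟨π, hπ⟩ := hA.2 ψ.range (τ.comp e.toMonoidHom) ⟨hτ.comp e.surjective, fun x hx => mem_center_iff.2 fun g =>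
      e.injective (by rw [map_mul, map_mul]; exact mem_center_iff.1 (hc hx) (e g)), fun x _ => by
        have h1 : (_root_.commutator ψ.range).map e.toMonoidHom = ⊤ := by
          rw [commutator_def, Subgroup.map_commutator, map_top_of_surjective _ e.surjective, ← commutator_def, hperf]
        obtain ⟨y, hy, hyx⟩ := h1.ge (mem_top (e x))
        exact e.injective hyx ▸ hy⟩
    exact ⟨{ toFun := fun a => ⟨e (π a).1, (π a).2⟩
             map_one' := Subtype.ext (by show e (π 1).1 = 1; rw [map_one]; exact map_one e)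
             map_mul' := fun a b => Subtype.ext (by show e (π (a * b)).1 = _; rw [map_mul]; exact map_mul e _ _) },
      fun z => by
        obtain ⟨a, ha⟩ := hπ ⟨e.symm z.1, by
          show τ (e (e.symm z.1)) = 1
          rw [e.apply_symm_apply]
          exact z.2⟩
        exact ⟨a, Subtype.ext (by show e (π a).1 = z.1; rw [ha]; exact e.apply_symm_apply _)⟩⟩
  have hcard : Nat.card τ.ker ≤ 2 := (Nat.card_le_card_of_surjective π hπ).trans (by simp)
  rcases (show Nat.card τ.ker = 1 ∨ Nat.card τ.ker = 2 by have := Nat.card_pos (α := τ.ker); omega) with h1 | h2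
  · exact Or.inl ⟨MulEquiv.ofBijective τ ⟨(MonoidHom.ker_eq_bot_iff τ).1 (Subgroup.eq_bot_of_card_eq _ h1), hτ⟩⟩
  · right
    have hk : center K = τ.ker := le_antisymm (fun x hx => by
      have h : τ x ∈ center PT := mem_center_iff.2 fun g => by
        obtain ⟨y, rfl⟩ := hτ g
        rw [← map_mul, ← map_mul, mem_center_iff.1 hx y]
      rwa [center_PT, mem_bot] at h) hc
    have eK : K ⧸ center K ≃* PT :=
      (QuotientGroup.quotientMulEquivOfEq hk).trans (QuotientGroup.quotientKerEquivOfSurjective τ hτ)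
    have hqK : Cfsg.IsQuasisimple K := ⟨⟨hperf⟩, (by
      haveI : Nontrivial (K ⧸ center K) := eK.toEquiv.nontrivial
      exact IsSimpleGroup.isSimpleGroup_of_surjective eK.symm.toMonoidHom eK.symm.surjective)⟩
    have hqS : Cfsg.IsQuasisimple ST :=
      ⟨⟨(Classical.sl_perfect_and_psl_simple (n := 2) (F := ZMod 13) le_rfl (by simp [ZMod.card])).1⟩,
        (inferInstance : IsSimpleGroup PT)⟩
    have hcS : Nat.card (center ST) = 2 := by
      rw [Classical.card_center_sl (by norm_num), ZMod.card]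
      rfl
    have hA2 : 2 * Nat.card (powMonoidHom 2 : Multiplicative (ZMod 2) →* Multiplicative (ZMod 2)).range =
        Nat.card (Multiplicative (ZMod 2)) := by
      rw [show (powMonoidHom 2 : Multiplicative (ZMod 2) →* Multiplicative (ZMod 2)) = 1 from
        MonoidHom.ext (by decide), MonoidHom.range_one, card_bot]
      simp
    have two : ∀ {L : Type u} [Group L] (Z : Subgroup L), Nat.card Z = 2 → ∀ x ∈ Z, x * x = 1 := fun Z hZ x hx => by
      haveI : Finite Z := Nat.finite_of_card_ne_zero (by omega)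
      have := congrArg Subtype.val (pow_card_eq_one' (x := (⟨x, hx⟩ : Z)))
      rwa [hZ, SubmonoidClass.coe_pow, pow_two] at this
    have twoS : ∀ x ∈ center ST, x * x = 1 := fun x hx => by
      have := congrArg Subtype.val (pow_card_eq_one' (x := (⟨x, hx⟩ : center ST)))
      rwa [hcS, SubmonoidClass.coe_pow, pow_two] at this
    obtain ⟨f₁⟩ := Spor.CoverByExponent.nonempty_equiv_cover hA hA2 hqK (hk ▸ h2) (two _ (hk ▸ h2)) eK
    obtain ⟨f₂⟩ := Spor.CoverByExponent.nonempty_equiv_cover hA hA2 hqS hcS twoS (MulEquiv.refl PT)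
    exact ⟨f₁.symm.trans f₂⟩

/-- A quaternion group permuted by an element of order three, in `SL(2, 13)`. -/
theorem quat_exists : ∃ a b g : ST, a * a = b * b ∧ a * b * a⁻¹ = b⁻¹ ∧ g * a * g⁻¹ = b ∧ g * b * g⁻¹ = a * b ∧
    a ∉ center ST ∧ b ∉ center ST ∧ a * b ∉ center ST ∧ a * b⁻¹ ∉ center ST ∧ a * a ∈ center ST ∧ a * a ≠ 1 := by
  let a : ST := ⟨!![5, 0; 0, 8], by decide⟩
  let b : ST := ⟨!![0, 1; 12, 0], by decide⟩
  let g : ST := ⟨!![3, 3; 2, 11], by decide⟩
  let u : ST := ⟨!![1, 1; 0, 1], by decide⟩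
  have hnc : ∀ x : ST, x.1 * u.1 ≠ u.1 * x.1 → x ∉ center ST := fun x hx hc => by
    refine hx ?_
    have h := congrArg (fun y : ST => y.1) (mem_center_iff.1 hc u)
    exact h.symm
  refine ⟨a, b, g, Subtype.ext ?_, Subtype.ext ?_, Subtype.ext ?_, Subtype.ext ?_, hnc _ ?_, hnc _ ?_, hnc _ ?_,
    hnc _ ?_, mem_center_iff.2 ?_, ?_⟩
  all_goals try simp only [Matrix.SpecialLinearGroup.coe_mul, Matrix.SpecialLinearGroup.coe_inv]
  all_goals try decide +kernel

/-- An element outside the kernel has a lift of prime power order. -/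
theorem exists_pElement {G : Type u} [Group G] [Finite G] {Q : Type*} [Group Q] [Finite Q] (f : G →* Q)
    (hf : Function.Surjective f) {p : ℕ} [hp : Fact p.Prime] (hd : p ∣ Nat.card Q) :
    ∃ x : G, (∃ i, orderOf x = p ^ i) ∧ f x ≠ 1 := by
  obtain ⟨t, ht⟩ := exists_prime_orderOf_dvd_card' p hd
  obtain ⟨x, rfl⟩ := hf t
  set n := orderOf x
  refine ⟨x ^ (n / p ^ n.factorization p), ⟨n.factorization p, ?_⟩, fun e => ?_⟩
  · rw [orderOf_pow' x (Nat.ordCompl_pos p (orderOf_pos x).ne').ne',
      Nat.gcd_eq_right (Nat.ordCompl_dvd n p), Nat.div_div_self (Nat.ordProj_dvd n p) (orderOf_pos x).ne']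
  · rw [map_pow, ← orderOf_dvd_iff_pow_eq_one, ht] at e
    exact Nat.not_dvd_ordCompl hp.out (orderOf_pos x).ne' e

/-- A subgroup containing all elements of prime power order is everything. -/
theorem eq_top_of_primary {G : Type u} [Group G] [Finite G] (C : Subgroup G)
    (h : ∀ (x : G) (r j : ℕ), r.Prime → orderOf x = r ^ j → x ∈ C) : C = ⊤ := by
  refine Subgroup.eq_top_of_card_eq C (Nat.dvd_antisymm C.card_subgroup_dvd_card ?_)
  refine (Nat.dvd_iff_prime_pow_dvd_dvd _ _).2 fun r k hr hk => ?_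
  haveI := Fact.mk hr
  obtain ⟨S⟩ : Nonempty (Sylow r G) := inferInstance
  refine ((Nat.Prime.pow_dvd_iff_le_factorization hr Nat.card_pos.ne').1 hk |> pow_dvd_pow r).trans ?_
  rw [← Sylow.card_eq_multiplicity S]
  refine Subgroup.card_dvd_of_le fun x hx => ?_
  obtain ⟨j, hj⟩ := IsPGroup.iff_orderOf.1 S.2 ⟨x, hx⟩
  exact h x r j hr (by rw [← hj, Subgroup.orderOf_mk])

/-- A group of odd order all of whose cyclic subgroups are normal is commutative. -/
theorem comm_of_cyclic_normal {P : Type u} [Group P] [Finite P] (hodd : Odd (Nat.card P))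
    (hc : ∀ x : P, (zpowers x).Normal) : IsMulCommutative P := by
  by_contra hna
  obtain ⟨Q, -, -, ⟨e⟩, -⟩ := Cfsg.Agent.S4211.result hna fun H => ⟨fun x hx g => by
    exact (zpowers_le.2 hx) ((hc x).conj_mem x (mem_zpowers x) g)⟩
  have h := Q.card_subgroup_dvd_card
  rw [Nat.card_congr e.toEquiv, Nat.card_eq_fintype_card, QuaternionGroup.card] at h
  exact (Nat.not_even_iff_odd.2 hodd) (even_iff_two_dvd.2 ((by norm_num : 2 ∣ 4 * 2).trans h))

end CfsgLib.MaxNormalizers
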